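import Mathlib
import Cfsg.Agent.H822.SLTransLarge
set_option linter.all false

-- part: H822/Coord
section
/-!
# Coordinates on an elementary abelian 2-group with a marked involution (helper822)
-/

set_option autoImplicit false

namespace Cfsg.Agent.H822.Coord

abbrev F := ZMod 2

theorem F_add_self (t : F) : t + t = 0 := by revert t; decide

theorem F_eq_one {t : F} (h : t ≠ 0) : t = 1 := by revert t; decide

/-- coordinates with `z` the first basis vector -/
theorem exists_coord {U : Type*} [Group U] [Finite U] (hc : ∀ a b : U, a * b = b * a)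
    (h2 : ∀ a : U, a * a = 1) {n : ℕ} (hcard : Nat.card U = 2 ^ (n + 1)) {z : U} (hz : z ≠ 1) :
    ∃ e : U ≃ (Fin (n + 1) → F), (∀ a b, e (a * b) = e a + e b) ∧ e z = Pi.single 0 1 := by
  classical
  letI : CommGroup U := { (inferInstance : Group U) with mul_comm := hc }
  letI : Module (ZMod 2) (Additive U) :=
    AddCommGroup.zmodModule (n := 2) (by intro x; rw [two_nsmul]; exact h2 x)
  have hfin : Module.finrank (ZMod 2) (Additive U) = n + 1 := by
    have h1 := Module.natCard_eq_pow_finrank (K := ZMod 2) (V := Additive U)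
    have h3 : Nat.card (Additive U) = 2 ^ (n + 1) := by
      rw [← hcard]; exact Nat.card_congr Additive.toMul
    rw [h3, Nat.card_eq_fintype_card, ZMod.card] at h1
    exact (Nat.pow_right_injective le_rfl h1).symm
  have hfin2 : Module.finrank (ZMod 2) (Fin (n + 1) → F) = n + 1 := by simp
  let f : Additive U ≃ₗ[ZMod 2] (Fin (n + 1) → F) := LinearEquiv.ofFinrankEq _ _ (hfin.trans hfin2.symm)
  have hfz : f (Additive.ofMul z) ≠ 0 := by
    intro h
    apply hz
    have h3 := f.map_eq_zero_iff.1 h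
    exact h3
  obtain ⟨j, hj⟩ : ∃ j, f (Additive.ofMul z) j ≠ 0 := by
    by_contra hcon
    push Not at hcon
    exact hfz (funext hcon)
  have hj1 : f (Additive.ofMul z) j = 1 := F_eq_one hj
  set s : Fin (n + 1) ≃ Fin (n + 1) := Equiv.swap 0 j with hs
  set v' : Fin (n + 1) → F := fun i => f (Additive.ofMul z) (s i) with hv'
  have hv0 : v' 0 = 1 := by rw [hv']; simp only [hs, Equiv.swap_apply_left]; exact hj1
  set u : Fin (n + 1) → F := v' + Pi.single 0 1 with hu
  have hu0 : u 0 = 0 := by rw [hu, Pi.add_apply, hv0, Pi.single_eq_same]; exact F_add_self 1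
  have huu : ∀ c : F, c • u + c • u = 0 := by
    intro c; ext i
    exact F_add_self _
  let L : (Fin (n + 1) → F) → (Fin (n + 1) → F) := fun w => w + w 0 • u
  have hLL : ∀ w, L (L w) = w := by
    intro w
    show w + w 0 • u + (w + w 0 • u) 0 • u = w
    have h3 : (w + w 0 • u) 0 = w 0 := by
      rw [Pi.add_apply, Pi.smul_apply, hu0, smul_zero, add_zero]
    rw [h3, add_assoc, huu, add_zero]
  have hLadd : ∀ a b, L (a + b) = L a + L b := by
    intro a b
    show a + b + (a + b) 0 • u = a + a 0 • u + (b + b 0 • u)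
    rw [Pi.add_apply, add_smul]; abel
  have hLv : L v' = Pi.single 0 1 := by
    show v' + v' 0 • u = _
    rw [hv0, one_smul, hu, ← add_assoc]
    have : v' + v' = 0 := by ext i; exact F_add_self _
    rw [this, zero_add]
  let e0 : U → (Fin (n + 1) → F) := fun a => L (fun i => f (Additive.ofMul a) (s i))
  have hinj : Function.Injective e0 := by
    intro a b hab
    have h3 := congrArg L hab
    simp only [e0, hLL] at h3
    have h4 : f (Additive.ofMul a) = f (Additive.ofMul b) := by
      ext i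
      have := congrFun h3 (s.symm i)
      simpa using this
    exact Additive.ofMul.injective (f.injective h4)
  have hsurj : Function.Surjective e0 := by
    intro w
    refine ⟨Additive.toMul (f.symm (fun i => L w (s.symm i))), ?_⟩
    show L (fun i => f (Additive.ofMul (Additive.toMul (f.symm (fun i => L w (s.symm i))))) (s i)) = w
    rw [ofMul_toMul, LinearEquiv.apply_symm_apply]
    have : (fun i => L w (s.symm (s i))) = L w := by ext i; rw [Equiv.symm_apply_apply]
    rw [this, hLL]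
  refine ⟨Equiv.ofBijective e0 ⟨hinj, hsurj⟩, ?_, hLv⟩
  intro a b
  show L (fun i => f (Additive.ofMul (a * b)) (s i)) = L (fun i => f (Additive.ofMul a) (s i)) +
    L (fun i => f (Additive.ofMul b) (s i))
  rw [← hLadd]
  congr 1
  ext i
  rw [ofMul_mul, map_add]; rfl

end Cfsg.Agent.H822.Coord
end

-- part: H822/Aff
section
/-!
# Affine groups inside `SL_{n+2}(2)` (helper822)

`aff A v`: the affine map `x ↦ A x + v` as an `(n+2) × (n+2)` matrix, the affine coordinate being the index `1`.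
-/

set_option autoImplicit false

namespace Cfsg.Agent.H822.Aff

open Matrix Cfsg.Agent.H822.SLTrans

variable {n : ℕ}

/-- the index embedding avoiding `1` -/
abbrev sg (n : ℕ) : Fin (n + 1) → Fin (n + 2) := Fin.succAbove 1

/-- the affine matrix -/
def aff (A : Matrix (Fin (n + 1)) (Fin (n + 1)) F) (v : Fin (n + 1) → F) :
    Matrix (Fin (n + 2)) (Fin (n + 2)) F :=
  Matrix.of (Fin.insertNth (α := fun _ => Fin (n + 2) → F) 1 (Fin.insertNth (α := fun _ => F) 1 1 0)
    (fun i => Fin.insertNth (α := fun _ => F) 1 (v i) (A i)))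

section

variable (A B : Matrix (Fin (n + 1)) (Fin (n + 1)) F) (v w : Fin (n + 1) → F)

theorem aff11 : aff A v 1 1 = 1 := by
  unfold aff
  rw [Matrix.of_apply, Fin.insertNth_apply_same, Fin.insertNth_apply_same]

theorem aff1s (j : Fin (n + 1)) : aff A v 1 (sg n j) = 0 := by
  unfold aff
  rw [Matrix.of_apply, Fin.insertNth_apply_same, Fin.insertNth_apply_succAbove]; rfl

theorem affs1 (i : Fin (n + 1)) : aff A v (sg n i) 1 = v i := by
  unfold aff
  rw [Matrix.of_apply, Fin.insertNth_apply_succAbove, Fin.insertNth_apply_same]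

theorem affss (i j : Fin (n + 1)) : aff A v (sg n i) (sg n j) = A i j := by
  unfold aff
  rw [Matrix.of_apply, Fin.insertNth_apply_succAbove, Fin.insertNth_apply_succAbove]

theorem ext4 {A B : Matrix (Fin (n + 2)) (Fin (n + 2)) F} (h11 : A 1 1 = B 1 1)
    (h1s : ∀ j, A 1 (sg n j) = B 1 (sg n j)) (hs1 : ∀ i, A (sg n i) 1 = B (sg n i) 1)
    (hss : ∀ i j, A (sg n i) (sg n j) = B (sg n i) (sg n j)) : A = B := by
  ext i j
  revert i
  rw [Fin.forall_iff_succAbove 1]
  constructor
  · revert j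
    rw [Fin.forall_iff_succAbove 1]
    exact ⟨h11, h1s⟩
  · intro i
    revert j
    rw [Fin.forall_iff_succAbove 1]
    exact ⟨hs1 i, hss i⟩

theorem aff_mul : aff A v * aff B w = aff (A * B) (A *ᵥ w + v) := by
  apply ext4
  · rw [Matrix.mul_apply, Fin.sum_univ_succAbove _ 1, aff11, aff11, aff11, Finset.sum_eq_zero, add_zero,
      mul_one]
    intro k _
    rw [aff1s, zero_mul]
  · intro j
    rw [Matrix.mul_apply, Fin.sum_univ_succAbove _ 1, aff11, aff1s, aff1s, Finset.sum_eq_zero, add_zero,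
      mul_zero]
    intro k _
    rw [aff1s, zero_mul]
  · intro i
    rw [Matrix.mul_apply, Fin.sum_univ_succAbove _ 1, affs1, affs1, aff11, mul_one, Pi.add_apply, add_comm]
    congr 1
    exact Finset.sum_congr rfl fun k _ => by rw [affss, affs1]
  · intro i j
    rw [Matrix.mul_apply, Fin.sum_univ_succAbove _ 1, affs1, aff1s, affss, mul_zero, zero_add,
      Matrix.mul_apply]
    exact Finset.sum_congr rfl fun k _ => by rw [affss, affss]

theorem aff_one : aff (1 : Matrix (Fin (n + 1)) (Fin (n + 1)) F) 0 = 1 := by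
  apply ext4
  · rw [aff11, Matrix.one_apply_eq]
  · intro j
    rw [aff1s, Matrix.one_apply_ne (Fin.succAbove_ne 1 j).symm]
  · intro i
    rw [affs1, Matrix.one_apply_ne (Fin.succAbove_ne 1 i)]; rfl
  · intro i j
    rw [affss]
    by_cases hij : i = j
    · rw [hij, Matrix.one_apply_eq, Matrix.one_apply_eq]
    · rw [Matrix.one_apply_ne hij, Matrix.one_apply_ne]
      exact fun h => hij (Fin.succAbove_right_injective h)

theorem sg_zero : sg n 0 = 0 := by
  unfold sg
  rw [Fin.succAbove_of_castSucc_lt]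
  · simp
  · simp

theorem aff_single : aff (1 : Matrix (Fin (n + 1)) (Fin (n + 1)) F) (Pi.single 0 1) =
    Matrix.transvection 0 1 1 := by
  rw [Matrix.transvection, ← aff_one]
  apply ext4
  · rw [Matrix.add_apply, aff11, aff11, Matrix.single_apply, if_neg (by simp), add_zero]
  · intro j
    rw [Matrix.add_apply, aff1s, aff1s, Matrix.single_apply, if_neg (by simp), add_zero]
  · intro i
    rw [Matrix.add_apply, affs1, affs1, Matrix.single_apply, Pi.zero_apply, zero_add, Pi.single_apply]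
    by_cases hi : i = 0
    · rw [if_pos hi, if_pos]
      exact ⟨by rw [hi, sg_zero], rfl⟩
    · rw [if_neg hi, if_neg]
      rintro ⟨h, -⟩
      apply hi
      rw [← sg_zero] at h
      exact (Fin.succAbove_right_injective h).symm
  · intro i j
    rw [Matrix.add_apply, affss, affss, Matrix.single_apply, if_neg, add_zero]
    rintro ⟨-, h⟩
    exact (Fin.succAbove_ne 1 j) h.symm

theorem aff_inj {A B : Matrix (Fin (n + 1)) (Fin (n + 1)) F} {v w : Fin (n + 1) → F}
    (h : aff A v = aff B w) : A = B ∧ v = w := by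
  constructor
  · ext i j
    have := congrFun (congrFun h (sg n i)) (sg n j)
    rwa [affss, affss] at this
  · ext i
    have := congrFun (congrFun h (sg n i)) 1
    rwa [affs1, affs1] at this

end

/-- elements of the centraliser are affine -/
theorem exists_aff {s : SL (n + 2)} (hs : s ∈ CC n) :
    ∃ A v, (s : Matrix (Fin (n + 2)) (Fin (n + 2)) F) = aff A v := by
  obtain ⟨h, x, y, c, rfl⟩ := mem_CC.1 hs
  refine ⟨(El h x y c : Matrix (Fin (n + 2)) (Fin (n + 2)) F).submatrix (sg n) (sg n),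
    fun i => (El h x y c : Matrix (Fin (n + 2)) (Fin (n + 2)) F) (sg n i) 1, ?_⟩
  rw [coe_El]
  apply ext4
  · rw [aff11]; rfl
  · intro j
    rw [aff1s]
    have hj : sg n j ≠ 1 := Fin.succAbove_ne 1 j
    revert hj
    generalize sg n j = k
    intro hk
    refine Fin.cases ?_ (fun k => Fin.cases ?_ (fun k => ?_) k) k hk
    · intro _; rfl
    · intro h; exact absurd rfl h
    · intro _; rfl
  · intro i
    rw [affs1]
  · intro i j
    rw [affss]; rfl

/-- the affine-type subgroups: `G = U ⋊ M` with coordinates on `U` -/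
structure Hol {G : Type*} [Group G] (U M : Subgroup G) (n : ℕ) (z : G) where
  nU : U.Normal
  comm : ∀ a ∈ U, ∀ b ∈ U, a * b = b * a
  inf : U ⊓ M = ⊥
  sup : U ⊔ M = ⊤
  faith : ∀ m ∈ M, (∀ u ∈ U, m * u * m⁻¹ = u) → m = 1
  full : ∀ φ : ↥U ≃* ↥U, ∃ m ∈ M, ∀ u : ↥U, ((φ u : ↥U) : G) = m * u * m⁻¹
  e : U ≃ (Fin (n + 1) → F)
  e_mul : ∀ a b, e (a * b) = e a + e b
  hz : z ∈ U
  e_z : e ⟨z, hz⟩ = Pi.single 0 1

namespace Hol

variable {G : Type*} [Group G] {U M : Subgroup G} {z : G} (H : Hol U M n z)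

include H

theorem e_one : H.e 1 = 0 := by
  have h := H.e_mul 1 1
  rw [mul_one] at h
  exact left_eq_add.1 h

theorem exists_factor (g : G) : ∃ u : U, ∃ m ∈ M, g = u * m := by
  have := H.nU
  have hg : g ∈ U ⊔ M := by rw [H.sup]; trivial
  rw [Subgroup.mem_sup_of_normal_left] at hg
  obtain ⟨u, hu, m, hm, rfl⟩ := hg
  exact ⟨⟨u, hu⟩, m, hm, rfl⟩

/-- the translation part -/
noncomputable def tr (g : G) : U := (H.exists_factor g).choose

theorem tr_spec (g : G) : ∃ m ∈ M, g = H.tr g * m := (H.exists_factor g).choose_spec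

theorem tr_eq {g : G} {u : U} {m : G} (hm : m ∈ M) (hg : g = u * m) : H.tr g = u := by
  obtain ⟨m', hm', hg'⟩ := H.tr_spec g
  have h1 : (u : G)⁻¹ * H.tr g = m * m'⁻¹ := by
    rw [inv_mul_eq_iff_eq_mul, ← mul_assoc, ← hg]
    rw [eq_mul_inv_iff_mul_eq]; exact hg'.symm
  have h2 : (u : G)⁻¹ * H.tr g ∈ U ⊓ M := Subgroup.mem_inf.2
    ⟨mul_mem (inv_mem u.2) (H.tr g).2, by rw [h1]; exact mul_mem hm (inv_mem hm')⟩
  rw [H.inf, Subgroup.mem_bot] at h2
  exact Subtype.ext (inv_mul_eq_one.1 h2).symm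

/-- conjugation on `U` -/
def cj (g : G) (u : U) : U := ⟨g * u * g⁻¹, H.nU.conj_mem u u.2 g⟩

theorem cj_mul (g : G) (a b : U) : H.cj g (a * b) = H.cj g a * H.cj g b := by
  apply Subtype.ext
  show g * (a * b) * g⁻¹ = (g * a * g⁻¹) * (g * b * g⁻¹)
  group

theorem cj_comp (g h : G) (a : U) : H.cj (g * h) a = H.cj g (H.cj h a) := by
  apply Subtype.ext
  show (g * h) * a * (g * h)⁻¹ = g * (h * a * h⁻¹) * g⁻¹
  group

theorem cj_U (u : G) (hu : u ∈ U) (a : U) : H.cj u a = a := by
  apply Subtype.ext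
  show u * a * u⁻¹ = a
  rw [H.comm u hu a a.2]; group

/-- the linear part -/
noncomputable def lin (g : G) : (Fin (n + 1) → F) →ₗ[F] (Fin (n + 1) → F) :=
  AddMonoidHom.toZModLinearMap 2
    { toFun := fun v => H.e (H.cj g (H.e.symm v))
      map_zero' := by
        have h1 : H.e.symm 0 = 1 := by rw [Equiv.symm_apply_eq]; exact H.e_one.symm
        have h2 : H.cj g 1 = 1 := by
          apply Subtype.ext
          show g * 1 * g⁻¹ = 1
          group
        rw [h1, h2]; exact H.e_one
      map_add' := by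
        intro v w
        have h1 : H.e.symm (v + w) = H.e.symm v * H.e.symm w := by
          rw [Equiv.symm_apply_eq, H.e_mul, Equiv.apply_symm_apply, Equiv.apply_symm_apply]
        rw [h1, H.cj_mul, H.e_mul] }

theorem lin_apply (g : G) (v : Fin (n + 1) → F) : H.lin g v = H.e (H.cj g (H.e.symm v)) := rfl

/-- the matrix of the linear part -/
noncomputable def mat (g : G) : Matrix (Fin (n + 1)) (Fin (n + 1)) F := LinearMap.toMatrix' (H.lin g)

theorem mat_mulVec (g : G) (v : Fin (n + 1) → F) : H.mat g *ᵥ v = H.e (H.cj g (H.e.symm v)) := by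
  rw [mat, LinearMap.toMatrix'_mulVec]; rfl

theorem mat_mul (g h : G) : H.mat (g * h) = H.mat g * H.mat h := by
  unfold mat
  rw [← LinearMap.toMatrix'_mul]
  congr 1
  ext1 v
  apply LinearMap.ext_ring
  show H.lin (g * h) _ = H.lin g (H.lin h _)
  rw [lin_apply, lin_apply, lin_apply, Equiv.symm_apply_apply, cj_comp]

theorem mat_eq_of {g : G} {B : Matrix (Fin (n + 1)) (Fin (n + 1)) F}
    (h : ∀ u : U, H.e (H.cj g u) = B *ᵥ H.e u) : H.mat g = B := by
  have h1 : ∀ v, H.mat g *ᵥ v = B *ᵥ v := by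
    intro v
    rw [H.mat_mulVec, h, Equiv.apply_symm_apply]
  ext i j
  have h2 := congrFun (h1 (Pi.single j 1)) i
  rwa [Matrix.mulVec_single_one, Matrix.mulVec_single_one] at h2

/-- the embedding as matrices -/
noncomputable def phiM : G →* Matrix (Fin (n + 2)) (Fin (n + 2)) F where
  toFun g := aff (H.mat g) (H.e (H.tr g))
  map_one' := by
    have h1 : H.tr 1 = 1 := H.tr_eq (m := 1) (one_mem M) (by simp)
    have h2 : H.mat 1 = 1 := H.mat_eq_of (fun u => by
      rw [Matrix.one_mulVec, H.cj_U 1 (one_mem U)])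
    rw [h1, h2, H.e_one, aff_one]
  map_mul' g h := by
    rw [aff_mul, ← H.mat_mul, H.mat_mulVec, Equiv.symm_apply_apply, ← H.e_mul]
    congr 2
    obtain ⟨m, hm, hg⟩ := H.tr_spec g
    obtain ⟨m', hm', hh⟩ := H.tr_spec h
    refine H.tr_eq (m := m * m') (mul_mem hm hm') ?_
    have hc : (H.cj g (H.tr h) : G) = g * H.tr h * g⁻¹ := rfl
    rw [Subgroup.coe_mul, hc]
    -- `g u' g⁻¹ = m u' m⁻¹`
    have h3 : g * (H.tr h : G) * g⁻¹ = m * H.tr h * m⁻¹ := by
      have h4 : m * (H.tr h : G) * m⁻¹ ∈ U := H.nU.conj_mem _ (H.tr h).2 m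
      calc g * (H.tr h : G) * g⁻¹ = (H.tr g : G) * (m * H.tr h * m⁻¹) * (H.tr g : G)⁻¹ := by
            conv_lhs => rw [hg]
            group
        _ = _ := by rw [H.comm _ (H.tr g).2 _ h4]; group
    rw [h3, H.comm _ (H.nU.conj_mem _ (H.tr h).2 m) _ (H.tr g).2]
    conv_lhs => rw [hg, hh]
    group

theorem phiM_apply (g : G) : H.phiM g = aff (H.mat g) (H.e (H.tr g)) := rfl

theorem det_phiM (g : G) : (H.phiM g).det = 1 := by
  apply eq_one_of_ne
  intro h
  have h1 : (H.phiM g * H.phiM g⁻¹).det = 1 := by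
    rw [← map_mul, mul_inv_cancel, map_one, Matrix.det_one]
  rw [Matrix.det_mul, h, zero_mul] at h1
  exact zero_ne_one h1

/-- the embedding in `SL` -/
noncomputable def phi : G →* SL (n + 2) where
  toFun g := ⟨H.phiM g, H.det_phiM g⟩
  map_one' := Subtype.ext (map_one H.phiM)
  map_mul' g h := Subtype.ext (map_mul H.phiM g h)

theorem coe_phi (g : G) : (H.phi g : Matrix (Fin (n + 2)) (Fin (n + 2)) F) = aff (H.mat g) (H.e (H.tr g)) := rfl

theorem phi_injective : Function.Injective H.phi := by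
  rw [injective_iff_map_eq_one]
  intro g hg
  have h1 : aff (H.mat g) (H.e (H.tr g)) = aff 1 0 := by
    rw [← H.coe_phi, hg, aff_one]; rfl
  obtain ⟨h2, h3⟩ := aff_inj h1
  have h4 : H.tr g = 1 := H.e.injective (h3.trans H.e_one.symm)
  obtain ⟨m, hm, hgm⟩ := H.tr_spec g
  rw [h4, Subgroup.coe_one, one_mul] at hgm
  rw [hgm]
  refine H.faith m hm fun u hu => ?_
  have h5 := H.mat_mulVec g (H.e ⟨u, hu⟩)
  rw [h2, Matrix.one_mulVec, Equiv.symm_apply_apply, hgm] at h5
  exact (congrArg Subtype.val (H.e.injective h5)).symm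

theorem phi_z : H.phi z = zz n := by
  apply Subtype.ext
  rw [H.coe_phi, coe_zz]
  have h1 : H.tr z = ⟨z, H.hz⟩ := H.tr_eq (m := 1) (one_mem M) (by simp)
  have h2 : H.mat z = 1 := H.mat_eq_of (fun u => by
    rw [Matrix.one_mulVec, H.cj_U z H.hz])
  rw [h1, h2, H.e_z, aff_single]

theorem CC_le : CC n ≤ H.phi.range := by
  intro s hs
  obtain ⟨A, v, hA⟩ := exists_aff hs
  obtain ⟨B, w, hB⟩ := exists_aff (inv_mem hs)
  have h1 : A * B = 1 := by
    have h2 : aff A v * aff B w = aff 1 0 := by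
      rw [← hA, ← hB, ← Matrix.SpecialLinearGroup.coe_mul, mul_inv_cancel, aff_one]; rfl
    rw [aff_mul] at h2
    exact (aff_inj h2).1
  have h1' : B * A = 1 := by
    have h2 : aff B w * aff A v = aff 1 0 := by
      rw [← hA, ← hB, ← Matrix.SpecialLinearGroup.coe_mul, inv_mul_cancel, aff_one]; rfl
    rw [aff_mul] at h2
    exact (aff_inj h2).1
  let φ : U ≃* U :=
    { toFun := fun u => H.e.symm (A *ᵥ H.e u)
      invFun := fun u => H.e.symm (B *ᵥ H.e u)
      left_inv := by
        intro u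
        show H.e.symm (B *ᵥ H.e (H.e.symm (A *ᵥ H.e u))) = u
        rw [Equiv.apply_symm_apply, Matrix.mulVec_mulVec, h1', Matrix.one_mulVec, Equiv.symm_apply_apply]
      right_inv := by
        intro u
        show H.e.symm (A *ᵥ H.e (H.e.symm (B *ᵥ H.e u))) = u
        rw [Equiv.apply_symm_apply, Matrix.mulVec_mulVec, h1, Matrix.one_mulVec, Equiv.symm_apply_apply]
      map_mul' := by
        intro a b
        show H.e.symm (A *ᵥ H.e (a * b)) = H.e.symm (A *ᵥ H.e a) * H.e.symm (A *ᵥ H.e b)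
        rw [Equiv.symm_apply_eq, H.e_mul, H.e_mul, Equiv.apply_symm_apply, Equiv.apply_symm_apply,
          Matrix.mulVec_add] }
  obtain ⟨m, hm, hφ⟩ := H.full φ
  refine ⟨(H.e.symm v : U) * m, ?_⟩
  apply Subtype.ext
  rw [H.coe_phi, hA]
  have h3 : H.tr ((H.e.symm v : U) * m) = H.e.symm v := H.tr_eq hm rfl
  have h4 : H.mat ((H.e.symm v : U) * m) = A := by
    refine H.mat_eq_of fun u => ?_
    rw [cj_comp, H.cj_U _ (H.e.symm v).2]
    have h5 : H.cj m u = φ u := Subtype.ext (hφ u).symm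
    rw [h5]
    show H.e (H.e.symm (A *ᵥ H.e u)) = _
    rw [Equiv.apply_symm_apply]
  rw [h3, h4, Equiv.apply_symm_apply]

end Hol

end Cfsg.Agent.H822.Aff
end

-- part: H822/Holo
section
/-!
# The holomorph of an elementary abelian 2-group: centraliser of an involution (helper822)
-/

set_option autoImplicit false
set_option linter.unusedSectionVars false

namespace Cfsg.Agent.H822.Aff

open Matrix Cfsg.Agent.H822.SLTrans
open Cfsg.Agent.Co2Type.Quad Cfsg.Agent.LargeExtra.Base Cfsg.Agent.H822.Bridge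

variable {n : ℕ}

/-- `core_eq` for `n = 1` as well -/
theorem core_eq' (hn : 1 ≤ n) : (Cfsg.pCore 2 ↥(CC n)).map (CC n).subtype = QQ n := by
  by_cases h2 : 2 ≤ n
  · exact core_eq h2
  · obtain rfl : n = 1 := by omega
    -- `C = Q`
    have hC : CC 1 = QQ 1 := by
      apply le_antisymm
      · intro g hg
        obtain ⟨h, x, y, c, rfl⟩ := mem_CC.1 hg
        have hh : h = 1 := by
          ext i j
          have hi : i = 0 := Subsingleton.elim _ _
          have hj : j = 0 := Subsingleton.elim _ _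
          subst hi hj
          have hd := h.2
          rw [Matrix.det_fin_one] at hd
          rw [Matrix.SpecialLinearGroup.coe_one, Matrix.one_apply_eq]
          exact hd
        subst hh
        exact ⟨_, _, _, rfl⟩
      · intro g hg
        exact Subgroup.mem_centralizer_singleton_iff.2 ((large 1).comm_z g hg)
    have h2 : IsPGroup 2 (CC 1) := by rw [hC]; exact isPGroup (large 1)
    have h3 : Cfsg.pCore 2 ↥(CC 1) = ⊤ := (Cfsg.Agent.Lib.Cores.pCore_eq_top_iff 2).2 h2
    rw [h3, ← MonoidHom.range_eq_map, Subgroup.range_subtype, hC]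

namespace Hol

variable {G : Type*} [Group G] {U M : Subgroup G} {z : G} (H : Hol U M n z)

include H

/-- preimage of a subgroup of `SL` -/
noncomputable def pre (X : Subgroup (SL (n + 2))) : Subgroup G := X.comap H.phi

theorem mem_pre {X : Subgroup (SL (n + 2))} {g : G} : g ∈ H.pre X ↔ H.phi g ∈ X := Iff.rfl

theorem phi_z_iff {g : G} : g * z = z * g ↔ H.phi g * zz n = zz n * H.phi g := by
  rw [← H.phi_z, ← map_mul, ← map_mul]
  exact ⟨fun h => by rw [h], fun h => H.phi_injective h⟩

theorem pre_CC : H.pre (CC n) = Subgroup.centralizer ({z} : Set G) := by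
  ext g
  rw [H.mem_pre, Subgroup.mem_centralizer_singleton_iff, Subgroup.mem_centralizer_singleton_iff, H.phi_z_iff]

theorem QQ_le : QQ n ≤ CC n := fun g hg =>
  Subgroup.mem_centralizer_singleton_iff.2 ((large n).comm_z g hg)

/-- elements of `CC n` come from `G` -/
theorem exists_pre {s : SL (n + 2)} (hs : s ∈ CC n) : ∃ g : G, H.phi g = s := H.CC_le hs

theorem card_pre {X : Subgroup (SL (n + 2))} (hX : X ≤ CC n) : Nat.card (H.pre X) = Nat.card X := by
  refine Nat.card_congr (Equiv.ofBijective (fun g => ⟨H.phi g, g.2⟩) ⟨?_, ?_⟩)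
  · intro a b hab
    exact Subtype.ext (H.phi_injective (congrArg Subtype.val hab))
  · rintro ⟨s, hs⟩
    obtain ⟨g, rfl⟩ := H.exists_pre (hX hs)
    exact ⟨⟨g, hs⟩, rfl⟩

theorem large : Large (H.pre (QQ n)) z := by
  have hL := SLTrans.large n
  have inj := H.phi_injective
  refine ⟨?_, ?_, ?_, ?_, ?_, ?_, ?_, ?_, ?_⟩
  · rw [H.mem_pre, H.phi_z]; exact hL.z_mem
  · intro h
    apply hL.z_ne
    have h1 : H.phi z = H.phi 1 := congrArg _ h
    rw [← H.phi_z, h1, map_one]
  · apply inj
    rw [map_mul, H.phi_z, map_one]; exact hL.z_sq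
  · intro x hx
    rw [H.phi_z_iff]; exact hL.comm_z _ hx
  · intro g hg x hx
    rw [H.mem_pre, map_mul, map_mul, map_inv]
    exact hL.conj_mem _ (H.phi_z_iff.1 hg) _ hx
  · intro x hx
    rcases hL.sq _ hx with h | h
    · left; apply inj; rw [map_mul, h, map_one]
    · right; apply inj; rw [map_mul, h, H.phi_z]
  · intro x hx y hy
    rcases hL.comm _ hx _ hy with h | h
    · left; apply inj; rw [map_mul, map_mul, h]
    · right; apply inj; rw [map_mul, map_mul, map_mul, h, H.phi_z]
  · intro x hx hc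
    rcases hL.cent _ hx (fun y hy => by
      obtain ⟨y', rfl⟩ := H.exists_pre (QQ_le H hy)
      rw [← map_mul, ← map_mul, hc y' hy]) with h | h
    · left; apply inj; rw [h, map_one]
    · right; apply inj; rw [h, H.phi_z]
  · intro g hg hc
    refine hL.self _ (H.phi_z_iff.1 hg) fun y hy => ?_
    obtain ⟨y', rfl⟩ := H.exists_pre (QQ_le H hy)
    rw [← map_mul, ← map_mul, hc y' hy]

/-- `C_G(z) ≃* CC n` -/
noncomputable def cEquiv : ↥(Subgroup.centralizer ({z} : Set G)) ≃* ↥(CC n) :=
  MulEquiv.ofBijective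
    (MonoidHom.mk' (fun g : ↥(Subgroup.centralizer ({z} : Set G)) => (⟨H.phi (g : G), Subgroup.mem_centralizer_singleton_iff.2
      (H.phi_z_iff.1 (Subgroup.mem_centralizer_singleton_iff.1 g.2))⟩ : ↥(CC n)))
      (fun a b => Subtype.ext (map_mul H.phi (a : G) (b : G))))
    (by
      constructor
      · intro a b hab
        exact Subtype.ext (H.phi_injective (congrArg Subtype.val hab))
      · rintro ⟨s, hs⟩
        obtain ⟨g, rfl⟩ := H.exists_pre hs
        exact ⟨⟨g, Subgroup.mem_centralizer_singleton_iff.2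
          (H.phi_z_iff.2 (Subgroup.mem_centralizer_singleton_iff.1 hs))⟩, rfl⟩)

theorem cEquiv_coe (g : ↥(Subgroup.centralizer ({z} : Set G))) : (H.cEquiv g : SL (n + 2)) = H.phi g := rfl

theorem core_pre (hn : 1 ≤ n) : (Cfsg.pCore 2 ↥(Subgroup.centralizer ({z} : Set G))).map
    (Subgroup.centralizer ({z} : Set G)).subtype = H.pre (QQ n) := by
  have h1 := Cfsg.Agent.Lib.Cores.map_equiv_pCore H.cEquiv 2
  have h2 := core_eq' hn
  ext g
  rw [H.mem_pre, ← h2]
  constructor
  · rintro ⟨c, hc, rfl⟩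
    refine ⟨H.cEquiv c, ?_, rfl⟩
    rw [← h1]; exact ⟨c, hc, rfl⟩
  · rintro ⟨s, hs, hs'⟩
    rw [← h1] at hs
    obtain ⟨c, hc, rfl⟩ := hs
    refine ⟨c, hc, ?_⟩
    apply H.phi_injective
    exact hs'

/-- complement -/
theorem compl : H.pre (KK n) ≤ Subgroup.centralizer ({z} : Set G) ∧ H.pre (QQ n) ⊓ H.pre (KK n) = ⊥ ∧
    H.pre (QQ n) ⊔ H.pre (KK n) = Subgroup.centralizer ({z} : Set G) := by
  have hK : H.pre (KK n) ≤ Subgroup.centralizer ({z} : Set G) := by
    rw [← H.pre_CC]; exact Subgroup.comap_mono KK_le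
  refine ⟨hK, ?_, ?_⟩
  · rw [eq_bot_iff]
    rintro g ⟨h1, h2⟩
    have h3 : H.phi g ∈ QQ n ⊓ KK n := ⟨h1, h2⟩
    rw [SLTrans.inf_eq, Subgroup.mem_bot] at h3
    rw [Subgroup.mem_bot]
    exact H.phi_injective (h3.trans (map_one _).symm)
  · apply le_antisymm
    · refine sup_le ?_ hK
      rw [← H.pre_CC]; exact Subgroup.comap_mono (QQ_le H)
    · intro g hg
      rw [← H.pre_CC, H.mem_pre] at hg
      obtain ⟨h, x, y, c, hh⟩ := mem_CC.1 hg
      rw [El_eq] at hh
      have k1 : lev h ∈ KK n := ⟨h, rfl⟩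
      obtain ⟨a, ha⟩ := H.exists_pre (KK_le k1)
      have k2 : El 1 x ((h⁻¹ : SL n) *ᵥ y : Fin n → F) c ∈ QQ n := ⟨_, _, _, rfl⟩
      obtain ⟨b, hb⟩ := H.exists_pre (QQ_le H k2)
      have h5 : g = a * b := by
        apply H.phi_injective
        rw [hh, map_mul, ha, hb]
      rw [h5]
      refine mul_mem (Subgroup.mem_sup_right ?_) (Subgroup.mem_sup_left ?_)
      · rw [H.mem_pre, ha]; exact k1
      · rw [H.mem_pre, hb]; exact k2

noncomputable def kPreEquiv : ↥(H.pre (KK n)) ≃* ↥(KK n) :=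
  MulEquiv.ofBijective
    (MonoidHom.mk' (fun g : ↥(H.pre (KK n)) => (⟨H.phi (g : G), g.2⟩ : ↥(KK n))) (fun a b => Subtype.ext (map_mul H.phi (a : G) (b : G))))
    (by
      constructor
      · intro a b hab
        exact Subtype.ext (H.phi_injective (congrArg Subtype.val hab))
      · rintro ⟨s, hs⟩
        obtain ⟨g, rfl⟩ := H.exists_pre (KK_le hs)
        exact ⟨⟨g, hs⟩, rfl⟩)

/-- `U ≤ Q` -/
theorem U_le (hn : 1 ≤ n) (hU2 : ∀ u ∈ U, u ^ 2 = 1) : U ≤ H.pre (QQ n) := by
  have hUC : U ≤ Subgroup.centralizer ({z} : Set G) := fun u hu =>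
    Subgroup.mem_centralizer_singleton_iff.2 (H.comm u hu z H.hz)
  have hn' := H.nU
  have hN : (U.subgroupOf (Subgroup.centralizer ({z} : Set G))).Normal := inferInstance
  have h2 : IsPGroup 2 U := fun u => ⟨1, by
    apply Subtype.ext
    show (u : G) ^ (2 ^ 1) = 1
    rw [pow_one]; exact hU2 u u.2⟩
  have h3 := Cfsg.Agent.Lib.Cores.le_pCore hN (h2.comap_subtype)
  intro u hu
  rw [← H.core_pre hn]
  exact ⟨⟨u, hUC hu⟩, h3 (Subgroup.mem_subgroupOf.2 hu), rfl⟩

theorem large_sub [Finite G] (hn : 1 ≤ n) (hU2 : ∀ u ∈ U, u ^ 2 = 1) (hcard : Nat.card U = 2 ^ (n + 1)) :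
    Cfsg.IsLargeExtraspecial (H.pre (QQ n)) := by
  have hL := H.large
  -- another element of `U`
  obtain ⟨b, hbU, hb1, hbz⟩ : ∃ b ∈ U, b ≠ 1 ∧ b ≠ z := by
    by_contra hcon
    push Not at hcon
    have h1 : Nat.card U ≤ 2 := by
      have h3 : Nat.card U ≤ Nat.card (({1, z} : Set G)) := by
        refine Nat.card_le_card_of_injective
          (fun x : U => (⟨x, by
            by_cases h : (x : G) = 1
            · simp [h]
            · have := hcon x x.2 h; simp [this]⟩ : ({1, z} : Set G))) ?_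
        intro x y hxy
        have hxy' := congrArg (fun t : (({1, z} : Set G)) => (t : G)) hxy
        exact Subtype.ext hxy'
      have h4 : Nat.card (({1, z} : Set G)) = 2 := by
        rw [Nat.card_coe_set_eq, Set.ncard_pair hL.z_ne.symm]
      omega
    rw [hcard] at h1
    have h3 : 2 ^ 2 ≤ 2 ^ (n + 1) := Nat.pow_le_pow_right (by norm_num) (by omega)
    omega
  have h2 : IsPGroup 2 U := fun u => ⟨1, by
    apply Subtype.ext
    show (u : G) ^ (2 ^ 1) = 1
    rw [pow_one]; exact hU2 u u.2⟩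
  exact isLarge_of_core hL (H.U_le hn hU2 hbU) hb1 hbz h2 H.hz
    (fun g _ x hx => H.nU.conj_mem x hx g) (by rw [← pow_two]; exact hU2 b hbU)

end Hol

/-- over the field with two elements `SL = GL` -/
noncomputable def slEquivGl (n : ℕ) : SL n ≃* Matrix.GeneralLinearGroup (Fin n) F :=
  MulEquiv.ofBijective Matrix.SpecialLinearGroup.toGL (by
    constructor
    · exact Matrix.SpecialLinearGroup.toGL_injective
    · intro g
      refine ⟨⟨g.1, ?_⟩, ?_⟩
      · apply eq_one_of_ne
        intro h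
        have h1 : (g.1 * g.2).det = 1 := by rw [g.3, Matrix.det_one]
        rw [Matrix.det_mul, h, zero_mul] at h1
        exact zero_ne_one h1
      · apply Units.ext
        rfl)

end Cfsg.Agent.H822.Aff
end
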